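import Groth.Agent.Lib.InjMod.Matlis
import Groth.Agent.Lib.InjMod.Essential
import Groth.Agent.Lib.Gor.Quotient
import Groth.Agent.Lib.GorFlat.Main
import Mathlib.RingTheory.HopkinsLevitzki

/-!
# Gorenstein local rings from simple socles modulo regular sequences
-/

set_option autoImplicit false

universe u

open CategoryTheory IsLocalRing RingTheory.Sequence

namespace GrothLib.GorInv27

/-- An Artinian local ring whose socle is spanned by one element is Gorenstein. -/
theorem isGorensteinLocalRing_of_socle (R : Type u) [CommRing R] [IsLocalRing R] [IsArtinianRing R] (v : R)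
    (hv : ∀ a ∈ maximalIdeal R, a * v = 0)
    (hsoc : ∀ x : R, (∀ a ∈ maximalIdeal R, a * x = 0) → ∃ c, x = c * v) :
    LocCoh.IsGorensteinLocalRing R := by
  haveI : IsNoetherianRing R := inferInstance
  obtain ⟨Q, _, _, i, hQ, hi⟩ := InjMod.exists_embedding_injective (R := R) (ResidueField R)
  obtain ⟨E, f, -, hf⟩ := InjMod.exists_hull_of_embedding hQ i hi
  have htor : LocCoh.IsPowerTorsion (maximalIdeal R) R := fun x => by
    obtain ⟨N, hN⟩ := IsArtinianRing.isNilpotent_jacobson_bot (R := R)
    rw [IsLocalRing.jacobson_eq_maximalIdeal ⊥ bot_ne_top] at hN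
    exact ⟨N, fun a ha => by
      rw [hN] at ha
      rw [show a = 0 from ha, zero_smul]⟩
  have hmem : ∀ x : R, x ∈ LocCoh.torsionBy (maximalIdeal R) R → ∀ a ∈ maximalIdeal R, a * x = 0 :=
    fun x hx a ha => (Submodule.mem_torsionBySet_iff _ _).1 hx ⟨a, ha⟩
  obtain ⟨a₁, ha₁, ha₁0⟩ := Matlis.exists_smul_mem_socle htor (one_ne_zero : (1 : R) ≠ 0)
  obtain ⟨c₀, hc₀⟩ := hsoc (a₁ • (1 : R)) (hmem _ ha₁)
  have hv0 : v ≠ 0 := fun h => ha₁0 (by rw [hc₀, h, mul_zero])
  obtain ⟨φ, hφ⟩ := Matlis.exists_apply_ne_zero hf hv0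
  have hinj : Function.Injective φ := Matlis.injective_of_socle htor φ fun x hx hx0 => by
    obtain ⟨c, rfl⟩ := hsoc x (hmem x hx)
    by_cases hc : IsUnit c
    · exfalso
      obtain ⟨cu, rfl⟩ := hc
      refine hφ ?_
      have h2 : φ ((cu : R) • v) = 0 := hx0
      rw [map_smul] at h2
      have h3 := congrArg ((↑cu⁻¹ : R) • ·) h2
      simpa [smul_smul] using h3
    · exact hv c ((IsLocalRing.mem_maximalIdeal c).2 hc)
  have hfin : IsFiniteLength R R :=
    isFiniteLength_iff_isNoetherian_isArtinian.2 ⟨inferInstance, inferInstance⟩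
  have hlen : Module.length R R = Module.length R E :=
    (Matlis.length_linearMap hf hfin).symm.trans (LinearMap.ringLmapEquivSelf R R E).length_eq
  have hsurj : Function.Surjective φ :=
    Matlis.surjective_of_length_eq φ hinj hlen (Module.length_ne_top_iff.2 hfin)
  have hR : Module.Injective R R :=
    InjMod.injective_of_linearEquiv (LinearEquiv.ofBijective φ ⟨hinj, hsurj⟩) hf.isInjective
  exact { exists_hasInjectiveDimensionLT := ⟨1, injective_iff_hasInjectiveDimensionLT_one.1
    (Module.injective_object_of_injective_module R R (inj := hR))⟩ }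

/-- A local ring is Gorenstein when its quotient by a regular sequence is. -/
theorem isGorensteinLocalRing_of_regular (n : ℕ) : ∀ (A : Type u) [CommRing A] [IsLocalRing A] [IsNoetherianRing A]
    (rs : List A), rs.length = n → (∀ r ∈ rs, r ∈ maximalIdeal A) → IsWeaklyRegular A rs →
    LocCoh.IsGorensteinLocalRing (A ⧸ Ideal.ofList rs) → LocCoh.IsGorensteinLocalRing A := by
  induction n with
  | zero =>
    intro A _ _ _ rs hl _ _ hG
    obtain rfl := List.length_eq_zero_iff.1 hl
    exact (GorFlat.gorenstein_congr ((Ideal.quotEquivOfEq Ideal.ofList_nil).trans (RingEquiv.quotientBot A))).1 hG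
  | succ n ih =>
    intro A _ _ _ rs hl hm hreg hG
    obtain ⟨a, rs, rfl⟩ := List.exists_cons_of_length_eq_add_one hl
    rw [isWeaklyRegular_cons_iff] at hreg
    let I : Ideal A := Ideal.span {a}
    have ham : a ∈ maximalIdeal A := hm a List.mem_cons_self
    have hI : I ≠ ⊤ := fun h => (maximalIdeal.isMaximal A).ne_top
      (top_unique (h ▸ (Ideal.span_singleton_le_iff_mem _).2 ham))
    haveI : Nontrivial (A ⧸ I) := Ideal.Quotient.nontrivial_iff.2 hI
    haveI : IsLocalRing (A ⧸ I) := IsLocalRing.of_surjective' (Ideal.Quotient.mk I) Ideal.Quotient.mk_surjective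
    haveI : LocCoh.IsGorensteinLocalRing (A ⧸ I) := by
      refine ih (A ⧸ I) (rs.map (Ideal.Quotient.mk I)) (by simpa using hl) ?_ ?_ ?_
      · intro r hr
        obtain ⟨r', hr', rfl⟩ := List.mem_map.1 hr
        rw [IsLocalRing.mem_maximalIdeal]
        intro hu
        exact (IsLocalRing.mem_maximalIdeal r').1 (hm r' (List.mem_cons_of_mem _ hr'))
          (((IsLocalHom.of_surjective (Ideal.Quotient.mk I) Ideal.Quotient.mk_surjective).map_nonunit r') hu)
      · refine (isWeaklyRegular_map_algebraMap_iff (A ⧸ I) (A ⧸ I) rs).2 ?_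
        refine (LinearEquiv.isWeaklyRegular_congr ?_ rs).1 hreg.2
        exact Submodule.quotEquivOfEq _ _ (by
          rw [← Submodule.ideal_span_singleton_smul, smul_eq_mul, Ideal.mul_top])
      · refine (GorFlat.gorenstein_congr ?_).1 hG
        refine (Ideal.quotEquivOfEq (Ideal.ofList_cons a rs)).trans ?_
        refine (DoubleQuot.quotQuotEquivQuotSup I (Ideal.ofList rs)).symm.trans ?_
        exact Ideal.quotEquivOfEq (Ideal.map_ofList (Ideal.Quotient.mk I) rs)
    exact Gor.isGorensteinLocalRing_of_quotient ham hreg.1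

end GrothLib.GorInv27
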