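import Groth.Agent.Lib.GorInv27.Socle
import Groth.Agent.Lib.GrLC.CanonGor
import Groth.Agent.Lib.FiniteQuot.DepthDescent
import Groth.Agent.Lib.CatCM.Basic
import Groth.Agent.S11137
import Groth.Agent.Lib.Dim.Ring
import Groth.Agent.Lib.AffDom.Formula
import Mathlib.RingTheory.MvPolynomial.Homogeneous
import Mathlib.RingTheory.MvPolynomial.Ideal
import Mathlib.RingTheory.Adjoin.Tower
import Mathlib.RingTheory.KrullDimension.Polynomial

/-!
# Watanabe: invariants of a finite subgroup of `SL_n` form a Gorenstein ring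
-/

set_option autoImplicit false
set_option linter.style.haveILetI false
set_option maxHeartbeats 800000

universe u

open IsLocalRing RingTheory.Sequence MvPolynomial

noncomputable section

namespace GrothLib.GorInv27

variable {k : Type u} [Field k] {n : ℕ}

/-- The piece of degree `j` of a subalgebra of polynomials. -/
def piece (B : Subalgebra k (MvPolynomial (Fin n) k)) (j : ℤ) : AddSubgroup B where
  carrier := {b | ∀ d : Fin n →₀ ℕ, coeff d (b : (MvPolynomial (Fin n) k)) ≠ 0 → (d.degree : ℤ) = j}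
  zero_mem' := fun d h => absurd (coeff_zero d) h
  add_mem' := fun {a b} ha hb d h => by
    by_cases h0 : coeff d (a : (MvPolynomial (Fin n) k)) = 0
    · exact hb d (by simpa [coeff_add, h0] using h)
    · exact ha d h0
  neg_mem' := fun {a} ha d h => ha d (by simpa using h)

theorem mem_piece {B : Subalgebra k (MvPolynomial (Fin n) k)} {j : ℤ} {b : B} :
    b ∈ piece B j ↔ ∀ d : Fin n →₀ ℕ, coeff d (b : (MvPolynomial (Fin n) k)) ≠ 0 → (d.degree : ℤ) = j := Iff.rfl

theorem piece_neg (B : Subalgebra k (MvPolynomial (Fin n) k)) (j : ℤ) (hj : j < 0) : piece B j = ⊥ := by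
  refine (AddSubgroup.eq_bot_iff_forall _).2 fun b hb => Subtype.ext (MvPolynomial.ext _ _ fun d => ?_)
  show coeff d (b : (MvPolynomial (Fin n) k)) = coeff d (0 : (MvPolynomial (Fin n) k))
  rw [coeff_zero]
  by_contra h
  have := hb d h
  omega

theorem gradedMonoid (B : Subalgebra k (MvPolynomial (Fin n) k)) : SetLike.GradedMonoid (piece B) where
  one_mem := fun d h => by
    have : d = 0 := by
      by_contra hd
      exact h (by rw [OneMemClass.coe_one, coeff_one, if_neg (Ne.symm hd)])
    simp [this]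
  mul_mem i j a b ha hb d h := by
    classical
    rw [MulMemClass.coe_mul, coeff_mul] at h
    obtain ⟨x, hx, hne⟩ := Finset.exists_ne_zero_of_sum_ne_zero h
    rw [Finset.HasAntidiagonal.mem_antidiagonal] at hx
    rw [← hx, ← ha x.1 (left_ne_zero_of_mul hne), ← hb x.2 (right_ne_zero_of_mul hne), map_add]
    push_cast
    ring

/-- `B` is stable under taking homogeneous components. -/
def CompStable (B : Subalgebra k (MvPolynomial (Fin n) k)) : Prop := ∀ (i : ℕ) (b : (MvPolynomial (Fin n) k)), b ∈ B → homogeneousComponent i b ∈ B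

theorem isInternal (B : Subalgebra k (MvPolynomial (Fin n) k)) (hB : CompStable B) : DirectSum.IsInternal (piece B) := by
  classical
  refine ⟨(injective_iff_map_eq_zero _).2 fun x hx => ?_, fun b => ?_⟩
  · refine DFinsupp.ext fun j => Subtype.ext (Subtype.ext (MvPolynomial.ext _ _ fun d => ?_))
    show coeff d ((x j : B) : (MvPolynomial (Fin n) k)) = coeff d (0 : (MvPolynomial (Fin n) k))
    rw [coeff_zero]
    by_contra hne
    have hj : (d.degree : ℤ) = j := (x j).2 d hne
    refine hne ?_
    have h1 : coeff d ((DirectSum.coeAddMonoidHom (piece B) x : B) : (MvPolynomial (Fin n) k)) = 0 := by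
      rw [hx]; exact coeff_zero d
    rw [DirectSum.coeAddMonoidHom_eq_dfinsuppSum, DFinsupp.sum, AddSubmonoidClass.coe_finsetSum, coeff_sum,
      Finset.sum_eq_single j] at h1
    · exact h1
    · intro i _ hij
      by_contra h0
      exact hij ((x i).2 d h0 ▸ hj)
    · intro h0
      rw [DFinsupp.notMem_support_iff.1 h0]
      exact coeff_zero d
  · refine ⟨∑ i ∈ Finset.range ((b : (MvPolynomial (Fin n) k)).totalDegree + 1), DirectSum.of (fun j => piece B j) (i : ℤ)
      ⟨⟨homogeneousComponent i (b : (MvPolynomial (Fin n) k)), hB i b b.2⟩, fun d h => ?_⟩, ?_⟩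
    · rw [coeff_homogeneousComponent] at h
      by_contra hne
      exact h (if_neg fun h' => hne (by rw [h']))
    · rw [map_sum]
      refine Subtype.ext ?_
      rw [AddSubmonoidClass.coe_finsetSum]
      refine Eq.trans ?_ (sum_homogeneousComponent (b : (MvPolynomial (Fin n) k)))
      refine Finset.sum_congr rfl fun i _ => ?_
      rw [DirectSum.coeAddMonoidHom_of]

/-- The grading. -/
@[reducible] def gradedRing (B : Subalgebra k (MvPolynomial (Fin n) k)) (hB : CompStable B) : GradedRing (piece B) where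
  toGradedMonoid := gradedMonoid B
  toDecomposition := (isInternal B hB).chooseDecomposition

theorem isUnit_of_mem_piece_zero {B : Subalgebra k (MvPolynomial (Fin n) k)} {b : B} (hb : b ∈ piece B 0) (h : b ≠ 0) :
    ∃ c : B, c ∈ piece B 0 ∧ b * c = 1 := by
  have hC : (b : (MvPolynomial (Fin n) k)) = C (constantCoeff (b : (MvPolynomial (Fin n) k))) := by
    refine MvPolynomial.ext _ _ fun d => ?_
    rw [coeff_C]
    by_cases hd : 0 = d
    · subst hd; rw [if_pos rfl]; rfl
    · rw [if_neg hd]
      by_contra hne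
      have := hb d hne
      exact hd ((Finsupp.degree_eq_zero_iff d).1 (by exact_mod_cast this)).symm
  have hc : constantCoeff (b : (MvPolynomial (Fin n) k)) ≠ 0 := fun hc => h (Subtype.ext (by rw [hC, hc, map_zero]; rfl))
  refine ⟨algebraMap k B (constantCoeff (b : (MvPolynomial (Fin n) k)))⁻¹, fun d hd => ?_, Subtype.ext ?_⟩
  · rw [Subalgebra.coe_algebraMap, algebraMap_eq, coeff_C] at hd
    by_cases h0 : 0 = d
    · simp [← h0]
    · exact absurd (if_neg h0) hd
  · show (b : (MvPolynomial (Fin n) k)) * C (constantCoeff (b : (MvPolynomial (Fin n) k)))⁻¹ = 1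
    conv_lhs => rw [hC, constantCoeff_C, ← map_mul, mul_inv_cancel₀ hc, map_one]

/-- The irrelevant ideal. -/
def irr (B : Subalgebra k (MvPolynomial (Fin n) k)) (hB : CompStable B) :
    letI := gradedRing B hB
    HomogeneousIdeal (piece B) :=
  letI := gradedRing B hB
  { toSubmodule := (RingHom.ker (constantCoeff (σ := Fin n) (R := k))).comap B.val.toRingHom
    is_homogeneous' := fun i b hb => by
      show constantCoeff ((DirectSum.decompose (piece B) b i : B) : (MvPolynomial (Fin n) k)) = 0
      classical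
      by_cases hi : i = 0
      · subst hi
        by_contra hne
        have h1 := congrArg (fun z : B => constantCoeff (z : (MvPolynomial (Fin n) k))) (DirectSum.sum_support_decompose (piece B) b)
        dsimp only at h1
        rw [AddSubmonoidClass.coe_finsetSum, map_sum, Finset.sum_eq_single (0 : ℤ)] at h1
        · exact hne (h1.trans hb)
        · intro j _ hj
          by_contra h0
          exact hj (((DirectSum.decompose (piece B) b j).2 0 h0).symm.trans (by simp))
        · intro h0
          rw [DFinsupp.notMem_support_iff.1 h0]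
          exact map_zero _
      · by_contra h0
        exact hi (((DirectSum.decompose (piece B) b i).2 0 h0).symm.trans (by simp)) }

/-- A subalgebra stable under components is Gorenstein once it is so at its vertex. -/
theorem isGorensteinRing_of_vertex (B : Subalgebra k (MvPolynomial (Fin n) k)) (hB : CompStable B) [IsNoetherianRing B]
    [((RingHom.ker (constantCoeff (σ := Fin n) (R := k))).under B).IsMaximal]
    (h : LocCoh.IsGorensteinLocalRing
      (Localization.AtPrime ((RingHom.ker (constantCoeff (σ := Fin n) (R := k))).under B))) :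
    LocCoh.IsGorensteinRing B := by
  letI := gradedRing B hB
  let m := irr B hB
  have hne : m.toIdeal ≠ ⊤ := ‹((RingHom.ker (constantCoeff (σ := Fin n) (R := k))).under B).IsMaximal›.ne_top
  have hle : ∀ I : HomogeneousIdeal (piece B), I.toIdeal ≠ ⊤ → I ≤ m := by
    intro I hI b hb
    by_contra hc
    have hcomp := I.is_homogeneous' 0 hb
    have hne0 : (DirectSum.decompose (piece B) b 0 : B) ≠ 0 := by
      intro h0
      refine hc ?_
      classical
      show constantCoeff ((b : B) : (MvPolynomial (Fin n) k)) = 0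
      rw [← DirectSum.sum_support_decompose (piece B) b, AddSubmonoidClass.coe_finsetSum, map_sum]
      refine Finset.sum_eq_zero fun j _ => ?_
      by_contra hj
      by_cases hj0 : j = 0
      · subst hj0; rw [h0] at hj; exact hj (map_zero _)
      · exact hj0 (((DirectSum.decompose (piece B) b j).2 0 hj).symm.trans (by simp))
    obtain ⟨c, -, hc1⟩ := isUnit_of_mem_piece_zero (DirectSum.decompose (piece B) b 0).2 hne0
    exact hI ((Ideal.eq_top_iff_one _).2 (hc1 ▸ I.toIdeal.mul_mem_right c hcomp))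
  have hm : _root_.GrLC.IsStarLocal (piece B) m := by
    refine ⟨⟨fun h => hne (by rw [h]; rfl), fun I hI => ?_⟩, fun I hI => ?_⟩
    · by_contra hne'
      exact not_lt_of_ge (hle I fun h' => hne' (HomogeneousIdeal.toIdeal_injective (by rw [h']; rfl))) hI
    · have hI' : I.toIdeal ≠ ⊤ := fun h' => hI.1 (HomogeneousIdeal.toIdeal_injective (by rw [h']; rfl))
      rcases (hle I hI').lt_or_eq with hlt | heq
      · exact absurd (hI.2 m hlt) fun h' => hne (by rw [h']; rfl)
      · exact heq
  have h0 : IsField (_root_.GrLC.deg0 (piece B)) := by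
    refine ⟨⟨0, 1, fun h => ?_⟩, mul_comm, fun {a} ha => ?_⟩
    · exact zero_ne_one (α := B) (congrArg Subtype.val h)
    · obtain ⟨c, hc, hc1⟩ := isUnit_of_mem_piece_zero (B := B) (b := (a : B)) a.2 fun h => ha (Subtype.ext h)
      exact ⟨⟨c, hc⟩, Subtype.ext hc1⟩
  have hirr : ∀ j : ℤ, 0 < j → ∀ r ∈ piece B j, r ∈ m.toIdeal := fun j hj r hr => by
    show constantCoeff ((r : B) : (MvPolynomial (Fin n) k)) = 0
    by_contra h'
    have := hr 0 h'
    simp at this
    omega
  haveI : m.toIdeal.IsMaximal := ‹((RingHom.ker (constantCoeff (σ := Fin n) (R := k))).under B).IsMaximal›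
  exact GrLC.isGorensteinRing_of_irrelevant (GrLC.pos_of_bot (piece_neg B)) h0 hm hirr h

/-- A system of parameters forming a regular sequence. -/
theorem exists_params (A : Type u) [CommRing A] [LocCoh.IsCohenMacaulayLocalRing A] (d : ℕ)
    (hd : ringKrullDim A = d) : ∃ rs : List A, rs.length = d ∧ (∀ r ∈ rs, r ∈ maximalIdeal A) ∧
      IsWeaklyRegular A rs ∧ ringKrullDim (A ⧸ Ideal.ofList rs) ≤ 0 := by
  have h := LocCoh.IsCohenMacaulayLocalRing.supportDim_eq_depth (R := A)
  rw [Module.supportDim_self_eq_ringKrullDim, hd] at h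
  obtain ⟨rs, hlen, hmem, hreg⟩ := (Depth.le_idealDepth_iff_exists (M := A) (maximalIdeal A)
    (by rw [smul_eq_mul, Ideal.mul_top]; exact (maximalIdeal.isMaximal A).ne_top) d).1 (WithBot.coe_inj.1 h).le
  have hne : Ideal.ofList rs ≠ ⊤ := fun h => (maximalIdeal.isMaximal A).ne_top
    (top_unique (h ▸ Ideal.span_le.2 fun r hr => hmem r hr))
  have hR : IsRegular A rs := ⟨hreg, fun h => hne (by rwa [smul_eq_mul, Ideal.mul_top, eq_comm] at h)⟩
  have h1 := ringKrullDim_add_length_eq_ringKrullDim_of_isRegular rs hR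
  rw [hd, hlen] at h1
  obtain ⟨e, he⟩ : ∃ e : ℕ∞, ringKrullDim (A ⧸ Ideal.ofList rs) = e := by
    induction h2 : ringKrullDim (A ⧸ Ideal.ofList rs) using WithBot.recBotCoe with
    | bot => rw [h2] at h1; simp at h1
    | coe a => exact ⟨a, rfl⟩
  refine ⟨rs, hlen, hmem, hreg, le_of_eq ?_⟩
  rw [he] at h1 ⊢
  have h3 : e + (d : ℕ∞) = (d : ℕ∞) := by exact_mod_cast h1
  have h4 : e = 0 := by
    obtain ⟨m, rfl⟩ := ENat.ne_top_iff_exists.1 (fun ht : e = ⊤ => by rw [ht, top_add] at h3; exact ENat.top_ne_coe d h3)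
    have : m + d = d := by exact_mod_cast h3
    simp only [Nat.cast_eq_zero]
    omega
  rw [h4]; rfl

variable {G : Type u} [Group G] [Fintype G] [MulSemiringAction G (MvPolynomial (Fin n) k)] [SMulCommClass G k (MvPolynomial (Fin n) k)]
  (ρ : G →* Matrix.GeneralLinearGroup (Fin n) k)
  (hX : ∀ (g : G) (i : Fin n), g • (X i : (MvPolynomial (Fin n) k)) =
    ∑ j : Fin n, (ρ g : Matrix (Fin n) (Fin n) k) j i • (X j : (MvPolynomial (Fin n) k)))

/-- The invariants. -/
abbrev inv (k : Type u) [Field k] (n : ℕ) (G : Type u) [Group G] [MulSemiringAction G (MvPolynomial (Fin n) k)]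
    [SMulCommClass G k (MvPolynomial (Fin n) k)] : Subalgebra k (MvPolynomial (Fin n) k) :=
  FixedPoints.subalgebra k (MvPolynomial (Fin n) k) G

include hX in
omit [Fintype G] in
theorem smul_eq_aeval (g : G) (s : (MvPolynomial (Fin n) k)) : g • s = aeval (fun i => g • (X i : (MvPolynomial (Fin n) k))) s := by
  refine AlgHom.congr_fun (φ₁ := MulSemiringAction.toAlgHom k (MvPolynomial (Fin n) k) g) (φ₂ := aeval fun i => g • (X i : (MvPolynomial (Fin n) k))) ?_ s
  exact MvPolynomial.algHom_ext fun i => by simp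

include hX in
omit [Fintype G] in
theorem isHomogeneous_smul_X (g : G) (i : Fin n) : (g • (X i : (MvPolynomial (Fin n) k))).IsHomogeneous 1 := by
  rw [hX]
  refine IsHomogeneous.sum _ _ _ fun j _ => ?_
  rw [smul_eq_C_mul]
  exact (isHomogeneous_X k j).C_mul _

include hX in
omit [Fintype G] in
theorem smul_component (g : G) (i : ℕ) (s : (MvPolynomial (Fin n) k)) :
    g • homogeneousComponent i s = homogeneousComponent i (g • s) := by
  classical
  conv_rhs => rw [← sum_homogeneousComponent s, Finset.smul_sum, map_sum]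
  have hmem : ∀ l : ℕ, g • homogeneousComponent l s ∈ homogeneousSubmodule (Fin n) k l := fun l => by
    rw [mem_homogeneousSubmodule, smul_eq_aeval ρ hX]
    simpa using (homogeneousComponent_isHomogeneous l s).aeval (fun j => g • (X j : (MvPolynomial (Fin n) k))) (n := 1)
      (isHomogeneous_smul_X ρ hX g)
  simp only [fun l => homogeneousComponent_of_mem (m := i) (hmem l), Finset.sum_ite_eq, Finset.mem_range]
  split_ifs with h
  · rfl
  · rw [homogeneousComponent_eq_zero i s (by omega), smul_zero]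

include hX in
omit [Fintype G] in
theorem constantCoeff_smul (g : G) (s : (MvPolynomial (Fin n) k)) : constantCoeff (g • s) = constantCoeff s := by
  rw [constantCoeff_eq]
  show coeff 0 (g • s) = coeff 0 s
  have h1 := smul_component ρ hX g 0 s
  rw [homogeneousComponent_zero, homogeneousComponent_zero] at h1
  have h2 : g • (C (coeff 0 s) : (MvPolynomial (Fin n) k)) = C (coeff 0 s) := by
    rw [← algebraMap_eq]
    exact smul_algebraMap g _
  exact (C_injective (Fin n) k (h2.symm.trans h1)).symm

/-- Invariant parameters. -/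
theorem exists_theta {B S : Type u} [CommRing B] [CommRing S] [Algebra B S] {G : Type u} [Group G] [Fintype G]
    [MulSemiringAction G S] [SMulCommClass G B S] [Algebra.IsInvariant B S G]
    (M : Ideal S) [M.IsPrime] (hM : ∀ g : G, ∀ x : S, g • x ∈ M ↔ x ∈ M)
    (Bm : Type u) [CommRing Bm] [Algebra B Bm] [IsLocalization.AtPrime Bm (M.under B)]
    [LocCoh.IsCohenMacaulayLocalRing Bm]
    (Q : Type u) [CommRing Q] [Algebra S Q] [IsLocalization.AtPrime Q M] [IsRegularLocalRing Q] {n : ℕ}
    (hdimB : ringKrullDim Bm ≤ (n : WithBot ℕ∞)) (hdimQ : ringKrullDim Q = n) :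
    ∃ θ : Fin n → B, (∀ i, θ i ∈ M.under B) ∧ IsWeaklyRegular Bm (List.ofFn (algebraMap B Bm ∘ θ)) ∧
      IsWeaklyRegular Q (List.ofFn (algebraMap S Q ∘ algebraMap B S ∘ θ)) ∧ ringKrullDim (Bm ⧸ JB θ Bm) ≤ 0 := by
  obtain ⟨d, hd⟩ : ∃ d : ℕ, ringKrullDim Bm = d := by
    obtain ⟨h, hh⟩ : ∃ h : ℕ∞, ringKrullDim Bm = h := ⟨_, IsLocalization.AtPrime.ringKrullDim_eq_height (M.under B) Bm⟩
    rw [hh] at hdimB
    have h' : h ≤ (n : ℕ∞) := by exact_mod_cast hdimB
    obtain ⟨d, rfl⟩ := ENat.ne_top_iff_exists.1 (ne_top_of_le_ne_top (ENat.coe_ne_top n) h')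
    exact ⟨d, hh⟩
  obtain ⟨rs, hlen, hmem, hreg, hdim0⟩ := exists_params Bm d hd
  -- numerators of the parameters
  choose num hnum using fun i : Fin d => IsLocalization.surj (M.under B).primeCompl (rs.get (i.cast hlen.symm))
  let θ₀ : Fin d → B := fun i => (num i).1
  have hden : ∀ i, IsUnit (algebraMap B Bm ((num i).2 : B)) := fun i => IsLocalization.map_units Bm (num i).2
  have hspan : JB θ₀ Bm = Ideal.ofList rs := by
    refine le_antisymm (Ideal.span_le.2 ?_) (Ideal.span_le.2 ?_)
    · rintro _ ⟨i, rfl⟩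
      show algebraMap B Bm (num i).1 ∈ Ideal.ofList rs
      rw [← hnum i]
      exact Ideal.mul_mem_right _ _ (Ideal.subset_span (List.get_mem rs _))
    · intro r hr
      obtain ⟨j, rfl⟩ := List.get_of_mem hr
      obtain ⟨u, hu⟩ := hden (j.cast hlen)
      have h1 := hnum (j.cast hlen)
      rw [← hu, show (j.cast hlen).cast hlen.symm = j from Fin.ext rfl] at h1
      have h2 : rs.get j = algebraMap B Bm (θ₀ (j.cast hlen)) * ↑u⁻¹ := (Units.eq_mul_inv_iff_mul_eq u).2 h1
      rw [h2]
      exact Ideal.mul_mem_right _ _ (Ideal.subset_span ⟨_, rfl⟩)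
  have hθ : ∀ i, θ₀ i ∈ (M.under B) := fun i => by
    rw [← IsLocalization.AtPrime.to_map_mem_maximal_iff Bm (M.under B)]
    show algebraMap B Bm (num i).1 ∈ _
    rw [← hnum i]
    exact Ideal.mul_mem_right _ _ (hmem _ (List.get_mem rs _))
  have hdim : ringKrullDim (Bm ⧸ JB θ₀ Bm) ≤ 0 := by rwa [hspan]
  haveI := krullDimLE_quotient (B := B) (θ := θ₀) M hM Bm Q hdim
  have hQdim : ringKrullDim (Q ⧸ JQ (S := S) θ₀ Q) ≤ 0 := by
    simpa using Ring.krullDimLE_iff.1 ‹Ring.KrullDimLE 0 (Q ⧸ JQ (S := S) θ₀ Q)›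
  obtain rfl : d = n := by
    have h1 : d ≤ n := by rw [hd] at hdimB; exact_mod_cast hdimB
    have h2 := ringKrullDim_le_ringKrullDim_quotient_add_encard
      (Set.range (algebraMap (S) Q ∘ algebraMap B (S) ∘ θ₀)) (by
        rw [IsLocalRing.ringJacobson_eq_maximalIdeal]
        exact fun x hx => JQ_le M Q hθ (Ideal.subset_span hx))
    have h3 : (Set.range (algebraMap (S) Q ∘ algebraMap B (S) ∘ θ₀)).encard ≤
        (d : ℕ∞) := by
      rw [← Set.image_univ]
      exact (Set.encard_image_le _ _).trans (by simp [Set.encard_univ])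
    have h4 : (n : WithBot ℕ∞) ≤ 0 + (d : WithBot ℕ∞) := by
      rw [← hdimQ]
      refine h2.trans (add_le_add hQdim ?_)
      exact_mod_cast h3
    rw [zero_add] at h4
    exact le_antisymm h1 (by exact_mod_cast h4)
  have hlist : Ideal.ofList (List.ofFn (algebraMap B Bm ∘ θ₀)) = JB θ₀ Bm := by
    simp [JB, Ideal.ofList, List.mem_ofFn, Set.range]
  have hlistQ : Ideal.ofList (List.ofFn (algebraMap (S) Q ∘ algebraMap B (S) ∘ θ₀)) =
      JQ (S := S) θ₀ Q := by
    simp [JQ, Ideal.ofList, List.mem_ofFn, Set.range]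
  have hQreg := CMFree.isRegular_of_ringKrullDim_quotient Q
    (List.ofFn (algebraMap (S) Q ∘ algebraMap B (S) ∘ θ₀))
    (by rw [hlistQ]; exact fun h => (maximalIdeal.isMaximal Q).ne_top (top_unique (h ▸ JQ_le M Q hθ)))
    (by
      rw [hlistQ, List.length_ofFn, hdimQ]
      exact (add_le_add hQdim le_rfl).trans (by rw [zero_add]))
  let eB : (Bm ⧸ (⊥ : Ideal Bm)) ≃ₗ[Bm] Bm := Submodule.quotEquivOfEqBot ⊥ rfl
  have hBreg : IsWeaklyRegular Bm (List.ofFn (algebraMap B Bm ∘ θ₀)) := by
    refine (eB.isWeaklyRegular_congr _).1 (CMFree.isWeaklyRegular_of_dim _ (fun r hr => ?_) ⊥ d bot_le ?_ fun m hm => ?_)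
    · obtain ⟨i, rfl⟩ := List.mem_ofFn.1 hr
      exact JB_le M Bm hθ (Ideal.subset_span ⟨i, rfl⟩)
    · have hne : maximalIdeal Bm • (⊤ : Submodule Bm (Bm ⧸ (⊥ : Ideal Bm))) ≠ ⊤ := fun h =>
        (maximalIdeal.isMaximal Bm).ne_top (by
          have h' := congrArg (Submodule.map eB.toLinearMap) h
          rwa [Submodule.map_smul'', Submodule.map_top, LinearEquiv.range, smul_eq_mul, Ideal.mul_top] at h')
      exact (Depth.le_idealDepth_iff_exists _ hne d).2 ⟨rs, hlen, hmem, (eB.isWeaklyRegular_congr rs).2 hreg⟩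
    · rw [bot_sup_eq, hlist, List.length_ofFn] at hm
      have h5 := hm.trans (add_le_add hdim le_rfl)
      rw [zero_add] at h5
      exact_mod_cast h5
  exact ⟨θ₀, hθ, hBreg, hQreg.1, hdim⟩

include hX in
theorem main (hdetρ : ∀ g : G, Matrix.det ((ρ g : Matrix (Fin n) (Fin n) k)) = 1)
    (hG : IsUnit ((Fintype.card G : ℕ) : k)) : LocCoh.IsGorensteinRing (inv k n G) := by
  classical
  let B := inv k n G
  haveI : Algebra.IsInvariant B (MvPolynomial (Fin n) k) G := ⟨fun s hs => ⟨⟨s, hs⟩, rfl⟩⟩
  haveI : Algebra.IsIntegral B (MvPolynomial (Fin n) k) := Algebra.IsInvariant.isIntegral B (MvPolynomial (Fin n) k) G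
  haveI : Algebra.FiniteType B (MvPolynomial (Fin n) k) := Algebra.FiniteType.of_restrictScalars_finiteType k B (MvPolynomial (Fin n) k)
  haveI : Module.Finite B (MvPolynomial (Fin n) k) := Algebra.IsIntegral.finite
  haveI : IsNoetherianRing B := by
    haveI : Algebra.FiniteType k B := ⟨fg_of_fg_of_fg k B (MvPolynomial (Fin n) k) Algebra.FiniteType.out Module.Finite.fg_top
      Subtype.val_injective⟩
    exact Algebra.FiniteType.isNoetherianRing k B
  -- averaging
  let N : k := ((Fintype.card G : ℕ) : k)⁻¹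
  have havg : ∀ s : (MvPolynomial (Fin n) k), N • ∑ g : G, g • s ∈ B := fun s h => by
    rw [smul_comm h N, Finset.smul_sum]
    congr 1
    exact Fintype.sum_equiv (Equiv.mulLeft h) _ _ fun g => by rw [Equiv.coe_mulLeft, mul_smul]
  let E : (MvPolynomial (Fin n) k) →ₗ[B] B :=
    { toFun := fun s => ⟨N • ∑ g : G, g • s, havg s⟩
      map_add' := fun a b => Subtype.ext (by simp [smul_add, Finset.sum_add_distrib])
      map_smul' := fun b s => Subtype.ext (by
        show N • ∑ g : G, g • (b • s) = (b : (MvPolynomial (Fin n) k)) * (N • ∑ g : G, g • s)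
        rw [mul_smul_comm, Finset.mul_sum]
        refine congrArg _ (Finset.sum_congr rfl fun g _ => ?_)
        show g • ((b : (MvPolynomial (Fin n) k)) * s) = _
        rw [smul_mul', b.2 g]) }
  have hE : E 1 = 1 := Subtype.ext (by
    show N • ∑ g : G, g • (1 : (MvPolynomial (Fin n) k)) = 1
    simp only [smul_one, Finset.sum_const, Finset.card_univ]
    rw [← Nat.cast_smul_eq_nsmul k (Fintype.card G) (1 : (MvPolynomial (Fin n) k)), smul_smul, inv_mul_cancel₀ hG.ne_zero, one_smul])
  haveI : FaithfulSMul B (MvPolynomial (Fin n) k) := (faithfulSMul_iff_algebraMap_injective _ _).2 Subtype.val_injective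
  haveI : Algebra.HasGoingDown B (MvPolynomial (Fin n) k) := Groth.Agent.S11137.result B (MvPolynomial (Fin n) k) G
  have hS : LocCoh.IsCohenMacaulayRing (MvPolynomial (Fin n) k) := CatCM.isCohenMacaulayRing_of_isRegularRing _
  haveI hBcm : LocCoh.IsCohenMacaulayRing B :=
    (FiniteQuot.isCohenMacaulay_of_retract (A := B) (R := (MvPolynomial (Fin n) k)) Subtype.val_injective E hE hS).1
  -- the vertex
  let M : Ideal (MvPolynomial (Fin n) k) := RingHom.ker (constantCoeff (σ := Fin n) (R := k))
  haveI hMmax : M.IsMaximal := RingHom.ker_isMaximal_of_surjective _ fun c => ⟨C c, constantCoeff_C _ c⟩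
  have hM : ∀ g : G, ∀ x : (MvPolynomial (Fin n) k), g • x ∈ M ↔ x ∈ M := fun g x => by
    show constantCoeff (g • x) = 0 ↔ constantCoeff x = 0
    rw [constantCoeff_smul ρ hX]
  let mB : Ideal B := M.under B
  haveI : mB.IsMaximal := Ideal.IsMaximal.under B M
  let Q := Localization.AtPrime M
  let Bm := Localization.AtPrime mB
  haveI : LocCoh.IsCohenMacaulayLocalRing Bm := hBcm.isCohenMacaulayLocalRing_localization mB
  haveI : IsNoetherianRing Q := IsLocalization.isNoetherianRing M.primeCompl Q inferInstance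
  -- parameters
  have hdimQ : ringKrullDim Q = n := by
    rw [IsLocalization.AtPrime.ringKrullDim_eq_height M Q]
    have h := AffDom.height_add_ringKrullDim_quotient k (MvPolynomial (Fin n) k) M
    rw [MvPolynomial.ringKrullDim_of_isNoetherianRing, ringKrullDim_eq_zero_of_field k,
      ringKrullDim_eq_zero_of_isField ((Ideal.Quotient.maximal_ideal_iff_isField_quotient M).1 hMmax)] at h
    simpa using h
  have hdimB : ringKrullDim Bm ≤ (n : WithBot ℕ∞) := by
    rw [IsLocalization.AtPrime.ringKrullDim_eq_height mB Bm]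
    refine (Ideal.height_le_ringKrullDim_of_ne_top (Ideal.IsPrime.ne_top inferInstance)).trans ?_
    rw [← Dim.ringKrullDim_eq_of_isIntegral (R := B) (S := MvPolynomial (Fin n) k) Subtype.val_injective,
      MvPolynomial.ringKrullDim_of_isNoetherianRing, ringKrullDim_eq_zero_of_field k]
    simp
  obtain ⟨θ₀, hθ, hBreg, hQreg, hdim⟩ := exists_theta (G := G) (B := B) M hM Bm Q hdimB hdimQ
  -- equivariant coefficients
  have hX' : ∀ g : G, ∀ i : Fin n, g • (X i : MvPolynomial (Fin n) k) =
      ∑ l : Fin n, C ((ρ g : Matrix (Fin n) (Fin n) k) l i) * X l := fun g i => by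
    rw [hX]; simp only [smul_eq_C_mul]
  have hMX : M = Ideal.span (Set.range (X : Fin n → MvPolynomial (Fin n) k)) := by
    refine SetLike.ext fun p => ?_
    have h := mem_pow_idealOfVars_iff' (σ := Fin n) (R := k) 1 p
    rw [pow_one] at h
    show constantCoeff p = 0 ↔ p ∈ idealOfVars (Fin n) k
    rw [h, constantCoeff_eq]
    constructor
    · intro h0 x hx
      rw [show x = 0 from (Finsupp.degree_eq_zero_iff x).1 (by omega)]
      exact h0
    · intro h0
      exact h0 0 (by simp)
  have hmemM : ∀ i, ∃ a : Fin n → MvPolynomial (Fin n) k, ∑ j, a j * X j = (θ₀ i : MvPolynomial (Fin n) k) := fun i => by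
    have h := hθ i
    rw [Ideal.under_def, Ideal.mem_comap, hMX, Ideal.mem_span_range_iff_exists_fun] at h
    exact h
  choose a ha using hmemM
  let c : Matrix (Fin n) (Fin n) (MvPolynomial (Fin n) k) := fun i l =>
    N • ∑ g : G, ∑ j, C ((ρ g : Matrix (Fin n) (Fin n) k) l j) * g • a i j
  have hc : ∀ i, algebraMap B (MvPolynomial (Fin n) k) (θ₀ i) = ∑ l, c i l * X l := fun i => by
    have h1 : ∀ g : G, ∑ l, (∑ j, C ((ρ g : Matrix (Fin n) (Fin n) k) l j) * g • a i j) * X l =
        (θ₀ i : MvPolynomial (Fin n) k) := fun g => by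
      conv_rhs => rw [← (θ₀ i).2 g, ← ha i, Finset.smul_sum]
      simp only [smul_mul', hX', Finset.mul_sum, Finset.sum_mul]
      rw [Finset.sum_comm]
      refine Finset.sum_congr rfl fun j _ => Finset.sum_congr rfl fun l _ => ?_
      ring
    show (θ₀ i : MvPolynomial (Fin n) k) = _
    simp only [c, smul_mul_assoc, ← Finset.smul_sum, Finset.sum_mul]
    rw [Finset.sum_comm]
    simp only [← Finset.sum_mul, h1, Finset.sum_const, Finset.card_univ]
    rw [← Nat.cast_smul_eq_nsmul k (Fintype.card G), smul_smul, inv_mul_cancel₀ hG.ne_zero, one_smul]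
  have hequiv : ∀ h : G, c.map (fun s => h • s) =
      c * ((ρ h⁻¹ : Matrix (Fin n) (Fin n) k).map (C : k →+* MvPolynomial (Fin n) k)).transpose := fun h => by
    refine Matrix.ext fun i l => ?_
    have hterm : ∀ g : G, h • ∑ j, C ((ρ g : Matrix (Fin n) (Fin n) k) l j) * g • a i j =
        ∑ m, (∑ j, C ((ρ (h * g) : Matrix (Fin n) (Fin n) k) m j) * (h * g) • a i j) *
          C ((ρ h⁻¹ : Matrix (Fin n) (Fin n) k) l m) := fun g => by
      have hρ : ∀ j, (ρ g : Matrix (Fin n) (Fin n) k) l j =
          ∑ m, (ρ h⁻¹ : Matrix (Fin n) (Fin n) k) l m * (ρ (h * g) : Matrix (Fin n) (Fin n) k) m j := fun j => by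
        rw [← Matrix.mul_apply, ← Units.val_mul, ← map_mul, inv_mul_cancel_left]
      rw [Finset.smul_sum]
      simp only [smul_mul', ← algebraMap_eq, smul_algebraMap, Finset.sum_mul]
      rw [Finset.sum_comm]
      refine Finset.sum_congr rfl fun j _ => ?_
      rw [hρ j, map_sum, Finset.sum_mul, mul_smul]
      refine Finset.sum_congr rfl fun m _ => ?_
      rw [map_mul]; ring
    rw [Matrix.map_apply, Matrix.mul_apply]
    show h • (N • ∑ g : G, _) = ∑ m, (N • _) * C _
    rw [smul_comm h N, Finset.smul_sum]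
    simp only [hterm, smul_mul_assoc, ← Finset.smul_sum, Finset.sum_mul]
    rw [Finset.sum_comm]
    refine congrArg _ (Finset.sum_congr rfl fun m _ => ?_)
    exact Fintype.sum_equiv (Equiv.mulLeft h) _ _ fun g => rfl
  have hΔ : c.det ∈ B := fun h => by
    have h1 : h • c.det = (c.map (fun s => h • s)).det :=
      RingHom.map_det (MulSemiringAction.toRingHom G (MvPolynomial (Fin n) k) h) c
    rw [h1, hequiv h, Matrix.det_mul, Matrix.det_transpose, ← RingHom.mapMatrix_apply, ← RingHom.map_det,
      hdetρ, map_one, mul_one]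
  exact isGorensteinRing_of_vertex B (fun i b hb g => by rw [smul_component ρ hX, hb g])
    (isGorensteinLocalRing (B := B) (S := MvPolynomial (Fin n) k) (G := G) M hM E hE Bm Q hθ c X ⟨c.det, hΔ⟩
      hMX hc rfl hBreg hQreg hdim)

end GrothLib.GorInv27
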