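import Groth.Agent.Lib.GorInv27.Artin
import Groth.Agent.Lib.KoszulColon.Colon
import Groth.Agent.Lib.KoszulFwd
import Groth.Agent.Lib.CMFree.Params
import Groth.Agent.Lib.LC.BaseChange
import Mathlib.RingTheory.Invariant.Basic
import Mathlib.RingTheory.Localization.Ideal
import Mathlib.RingTheory.KrullDimension.Basic

/-!
# Socles of invariants modulo invariant parameters
-/

set_option autoImplicit false
set_option linter.style.haveILetI false

universe u

open IsLocalRing RingTheory.Sequence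
open scoped Pointwise

namespace GrothLib.GorInv27

variable {B S : Type u} [CommRing B] [CommRing S] [Algebra B S] {G : Type u} [Group G] [Fintype G]
  [MulSemiringAction G S] [SMulCommClass G B S] [Algebra.IsInvariant B S G]
  (M : Ideal S) [M.IsPrime] (hM : ∀ g : G, ∀ x : S, g • x ∈ M ↔ x ∈ M)

include hM in
theorem exists_invariant_dvd (u : S) (hu : u ∉ M) :
    ∃ a : B, a ∉ M.under B ∧ u ∣ algebraMap B S a := by
  classical
  obtain ⟨a, ha⟩ := Algebra.IsInvariant.isInvariant (A := B) (G := G) (∏ g : G, g • u) (Finset.smul_prod_perm u)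
  refine ⟨a, fun h => ?_, ?_⟩
  · rw [Ideal.under_def, Ideal.mem_comap, ha, (‹M.IsPrime›).prod_mem_iff] at h
    obtain ⟨g, -, hg⟩ := h
    exact hu ((hM g u).1 hg)
  · rw [ha]
    have := Finset.dvd_prod_of_mem (fun g : G => g • u) (Finset.mem_univ (1 : G))
    rwa [one_smul] at this

variable (E : S →ₗ[B] B) (hE : E 1 = 1) {n : ℕ} (θ : Fin n → B)

omit [SMulCommClass G B S] in
theorem E_mul (a : B) (s : S) : E (algebraMap B S a * s) = a * E s := by
  rw [← Algebra.smul_def, map_smul, smul_eq_mul]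

include hE in
theorem retract_mem (a : B) (h : algebraMap B S a ∈ Ideal.span (Set.range (algebraMap B S ∘ θ))) :
    a ∈ Ideal.span (Set.range θ) := by
  obtain ⟨c, hc⟩ := (Ideal.mem_span_range_iff_exists_fun).1 h
  refine (Ideal.mem_span_range_iff_exists_fun).2 ⟨fun i => E (c i), ?_⟩
  have h1 := congrArg E hc
  rw [map_sum, ← mul_one (algebraMap B S a), E_mul E a 1, hE, mul_one] at h1
  rw [← h1]
  refine Finset.sum_congr rfl fun i _ => ?_
  rw [Function.comp_apply, mul_comm (c i), E_mul, mul_comm]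

variable (Bm : Type u) [CommRing Bm] [Algebra B Bm] [IsLocalization.AtPrime Bm (M.under B)]
  (Q : Type u) [CommRing Q] [Algebra S Q] [IsLocalization.AtPrime Q M]

/-- The parameters, downstairs. -/
abbrev JB : Ideal Bm := Ideal.span (Set.range (algebraMap B Bm ∘ θ))

/-- The parameters, upstairs. -/
abbrev JQ : Ideal Q := Ideal.span (Set.range (algebraMap S Q ∘ algebraMap B S ∘ θ))

omit [Fintype G] [SMulCommClass G B S] [Algebra.IsInvariant B S G] in
theorem JB_eq : JB θ Bm = (Ideal.span (Set.range θ)).map (algebraMap B Bm) := by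
  rw [JB, Ideal.map_span, ← Set.range_comp]

omit [Fintype G] [SMulCommClass G B S] [Algebra.IsInvariant B S G] in
theorem JQ_eq : JQ (S := S) θ Q = (Ideal.span (Set.range (algebraMap B S ∘ θ))).map (algebraMap S Q) := by
  rw [JQ, Ideal.map_span, ← Set.range_comp]

omit [M.IsPrime] [Fintype G] [SMulCommClass G B S] [Algebra.IsInvariant B S G] in
theorem span_le_comap :
    Ideal.span (Set.range θ) ≤ (Ideal.span (Set.range (algebraMap B S ∘ θ))).comap (algebraMap B S) :=
  Ideal.span_le.2 fun _ ⟨i, hi⟩ => hi ▸ Ideal.subset_span ⟨i, rfl⟩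

include hM hE in
theorem mem_JB_iff (b : B) : algebraMap B Bm b ∈ JB θ Bm ↔ algebraMap S Q (algebraMap B S b) ∈ JQ (S := S) θ Q := by
  rw [JB_eq, JQ_eq, IsLocalization.algebraMap_mem_map_algebraMap_iff (M.under B).primeCompl,
    IsLocalization.algebraMap_mem_map_algebraMap_iff M.primeCompl]
  constructor
  · rintro ⟨a, ha, h⟩
    refine ⟨algebraMap B S a, fun h' => ha h', ?_⟩
    rw [← map_mul]
    exact span_le_comap θ h
  · rintro ⟨u, hu, h⟩
    obtain ⟨a, ha, c, hc⟩ := exists_invariant_dvd (B := B) M hM u hu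
    refine ⟨a, ha, retract_mem E hE θ _ ?_⟩
    rw [map_mul, hc, mul_assoc, mul_left_comm]
    exact Ideal.mul_mem_left _ c h

variable {θ} (hθ : ∀ i, θ i ∈ M.under B)

include hM in
/-- The only prime above the parameters. -/
theorem eq_of_le (hdim : ringKrullDim (Bm ⧸ JB θ Bm) ≤ 0) (P : Ideal S) [hP : P.IsPrime] (hPM : P ≤ M)
    (hJP : ∀ i, algebraMap B S (θ i) ∈ P) : P = M := by
  let q : Ideal B := P.under B
  have hq : q ≤ M.under B := Ideal.comap_mono hPM
  have hdisj : Disjoint ((M.under B).primeCompl : Set B) (q : Set B) :=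
    Set.disjoint_left.2 fun x hx hxq => hx (hq hxq)
  let q' : Ideal Bm := q.map (algebraMap B Bm)
  haveI hq' : q'.IsPrime := IsLocalization.isPrime_of_isPrime_disjoint (M.under B).primeCompl Bm q inferInstance hdisj
  have hle : JB θ Bm ≤ q' := Ideal.span_le.2 fun _ ⟨i, hi⟩ => hi ▸ Ideal.mem_map_of_mem _ (hJP i)
  haveI : Ring.KrullDimLE 0 (Bm ⧸ JB θ Bm) := Ring.krullDimLE_iff.2 (by simpa using hdim)
  haveI := IsLocalization.AtPrime.isLocalRing Bm (M.under B)
  have hmax : q' = IsLocalRing.maximalIdeal Bm := by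
    haveI : (q'.map (Ideal.Quotient.mk (JB θ Bm))).IsPrime :=
      Ideal.map_isPrime_of_surjective Ideal.Quotient.mk_surjective (by rwa [Ideal.mk_ker])
    have h1 : (q'.map (Ideal.Quotient.mk (JB θ Bm))).IsMaximal := Ideal.IsPrime.isMaximal' inferInstance
    have h2 := Ideal.comap_isMaximal_of_surjective (Ideal.Quotient.mk (JB θ Bm)) Ideal.Quotient.mk_surjective
      (K := q'.map (Ideal.Quotient.mk (JB θ Bm)))
    rw [Ideal.comap_map_of_surjective _ Ideal.Quotient.mk_surjective, ← RingHom.ker_eq_comap_bot, Ideal.mk_ker,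
      sup_eq_left.2 hle] at h2
    exact IsLocalRing.eq_maximalIdeal h2
  have hqm : q = M.under B := by
    have h1 : q'.under B = (IsLocalRing.maximalIdeal Bm).under B := by rw [hmax]
    rwa [IsLocalization.comap_map_of_isPrime_disjoint (M.under B).primeCompl Bm inferInstance hdisj,
      IsLocalization.AtPrime.under_maximalIdeal Bm (M.under B)] at h1
  obtain ⟨g, hg⟩ := Algebra.IsInvariant.exists_smul_of_under_eq B S G M P hqm.symm
  rw [hg]
  refine SetLike.ext fun x => ?_
  rw [Ideal.mem_pointwise_smul_iff_inv_smul_mem]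
  exact hM g⁻¹ x

include hθ in
omit [Fintype G] [SMulCommClass G B S] [Algebra.IsInvariant B S G] in
theorem JQ_le [IsLocalRing Q] : JQ (S := S) θ Q ≤ maximalIdeal Q := by
  refine Ideal.span_le.2 fun _ ⟨i, hi⟩ => hi ▸ ?_
  show algebraMap S Q (algebraMap B S (θ i)) ∈ maximalIdeal Q
  rw [IsLocalization.AtPrime.to_map_mem_maximal_iff Q M]
  exact hθ i

include hθ in
omit [Fintype G] [SMulCommClass G B S] [Algebra.IsInvariant B S G] in
theorem JB_le [IsLocalRing Bm] : JB θ Bm ≤ maximalIdeal Bm := by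
  refine Ideal.span_le.2 fun _ ⟨i, hi⟩ => hi ▸ ?_
  show algebraMap B Bm (θ i) ∈ maximalIdeal Bm
  rw [IsLocalization.AtPrime.to_map_mem_maximal_iff Bm (M.under B)]
  exact hθ i

include hM in
theorem krullDimLE_quotient (hdim : ringKrullDim (Bm ⧸ JB θ Bm) ≤ 0) : Ring.KrullDimLE 0 (Q ⧸ JQ (S := S) θ Q) := by
  haveI := IsLocalization.AtPrime.isLocalRing Q M
  refine Ring.KrullDimLE.mk₀ fun p hp => ?_
  let p' : Ideal Q := p.comap (Ideal.Quotient.mk (JQ (S := S) θ Q))
  haveI : p'.IsPrime := Ideal.IsPrime.comap _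
  have hle : JQ (S := S) θ Q ≤ p' := fun x hx => by
    show Ideal.Quotient.mk (JQ (S := S) θ Q) x ∈ p
    rw [Ideal.Quotient.eq_zero_iff_mem.2 hx]
    exact zero_mem _
  haveI : (p'.comap (algebraMap S Q)).IsPrime := Ideal.IsPrime.comap _
  have hP : p'.comap (algebraMap S Q) = M := by
    refine eq_of_le M hM Bm hdim _ (fun x hx => ?_) fun i => hle (Ideal.subset_span ⟨i, rfl⟩)
    by_contra hxM
    exact (inferInstance : p'.IsPrime).ne_top (Ideal.eq_top_of_isUnit_mem _ hx
      (IsLocalization.map_units Q (⟨x, hxM⟩ : M.primeCompl)))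
  have hmax : p'.IsMaximal := by
    have : p' = maximalIdeal Q := by
      rw [← IsLocalization.map_under M.primeCompl Q p', Ideal.under_def, hP, IsLocalization.AtPrime.map_eq_maximalIdeal M Q]
    exact this ▸ maximalIdeal.isMaximal Q
  have h3 := Ideal.map_eq_top_or_isMaximal_of_surjective (Ideal.Quotient.mk (JQ (S := S) θ Q)) Ideal.Quotient.mk_surjective hmax
  rw [Ideal.map_comap_of_surjective _ Ideal.Quotient.mk_surjective] at h3
  exact h3.resolve_left hp.ne_top

variable [IsNoetherianRing Bm] [IsNoetherianRing Q] (c : Matrix (Fin n) (Fin n) S) (g : Fin n → S) (Δ : B)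

include hM hE hθ in
/-- The invariants are Gorenstein at the fixed prime. -/
theorem isGorensteinLocalRing (hg : M = Ideal.span (Set.range g))
    (hc : ∀ i, algebraMap B S (θ i) = ∑ j, c i j * g j) (hΔ : algebraMap B S Δ = c.det)
    (hBreg : IsWeaklyRegular Bm (List.ofFn (algebraMap B Bm ∘ θ)))
    (hQreg : IsWeaklyRegular Q (List.ofFn (algebraMap S Q ∘ algebraMap B S ∘ θ)))
    (hdim : ringKrullDim (Bm ⧸ JB θ Bm) ≤ 0) : LocCoh.IsGorensteinLocalRing Bm := by
  classical
  haveI := IsLocalization.AtPrime.isLocalRing Q M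
  haveI := IsLocalization.AtPrime.isLocalRing Bm (M.under B)
  let fQ : Fin n → Q := algebraMap S Q ∘ algebraMap B S ∘ θ
  let gQ : Fin n → Q := algebraMap S Q ∘ g
  have hmaxQ : maximalIdeal Q = Ideal.span (Set.range gQ) := by
    rw [← IsLocalization.AtPrime.map_eq_maximalIdeal M Q, hg, Ideal.map_span, ← Set.range_comp]
  have hcQ : ∀ i, fQ i = ∑ j, (c.map (algebraMap S Q)) i j * gQ j := fun i => by
    show algebraMap S Q (algebraMap B S (θ i)) = _
    rw [hc i, map_sum]
    exact Finset.sum_congr rfl fun j _ => map_mul _ _ _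
  have hdet : (c.map (algebraMap S Q)).det = algebraMap S Q (algebraMap B S Δ) := by
    rw [hΔ, RingHom.map_det]
    rfl
  have hcolon : ∀ x : Q, (∀ a ∈ maximalIdeal Q, a * x ∈ JQ (S := S) θ Q) ↔
      x ∈ JQ (S := S) θ Q ⊔ Ideal.span {algebraMap S Q (algebraMap B S Δ)} := by
    intro x
    have hk := KoszulColon.mem_colon_iff fQ gQ (c.map (algebraMap S Q)) hcQ
      (KoszulFwd.isKoszulRegularSeq_of_isWeaklyRegular _ hQreg) x
    rw [hdet] at hk
    refine Iff.trans ⟨fun h j => ?_, fun h a ha => ?_⟩ hk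
    · rw [mul_comm]
      exact h _ (hmaxQ.symm ▸ Ideal.subset_span ⟨j, rfl⟩)
    · rw [hmaxQ, Ideal.mem_span_range_iff_exists_fun] at ha
      obtain ⟨d, rfl⟩ := ha
      rw [Finset.sum_mul]
      refine Ideal.sum_mem _ fun j _ => ?_
      rw [mul_assoc, mul_comm (gQ j)]
      exact Ideal.mul_mem_left _ _ (h j)
  -- the Artinian rings upstairs and downstairs
  haveI := krullDimLE_quotient M hM Bm Q hdim (θ := θ)
  haveI : IsArtinianRing (Q ⧸ JQ (S := S) θ Q) := IsNoetherianRing.isArtinianRing_of_krullDimLE_zero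
  haveI : Nontrivial (Q ⧸ JQ (S := S) θ Q) := Ideal.Quotient.nontrivial_iff.2 fun h =>
    (maximalIdeal.isMaximal Q).ne_top (top_unique (h ▸ JQ_le M Q hθ))
  haveI : IsLocalRing (Q ⧸ JQ (S := S) θ Q) :=
    IsLocalRing.of_surjective' (Ideal.Quotient.mk _) Ideal.Quotient.mk_surjective
  haveI : Ring.KrullDimLE 0 (Bm ⧸ JB θ Bm) := Ring.krullDimLE_iff.2 (by simpa using hdim)
  haveI : IsArtinianRing (Bm ⧸ JB θ Bm) := IsNoetherianRing.isArtinianRing_of_krullDimLE_zero
  haveI : Nontrivial (Bm ⧸ JB θ Bm) := Ideal.Quotient.nontrivial_iff.2 fun h =>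
    (maximalIdeal.isMaximal Bm).ne_top (top_unique (h ▸ JB_le M Bm hθ))
  haveI : IsLocalRing (Bm ⧸ JB θ Bm) :=
    IsLocalRing.of_surjective' (Ideal.Quotient.mk _) Ideal.Quotient.mk_surjective
  -- every non-zero element of the quotient upstairs has a multiple in the socle
  have hsocQ : ∀ y : Q, y ∉ JQ (S := S) θ Q → ∃ a : Q, (∀ b ∈ maximalIdeal Q, b * (a * y) ∈ JQ (S := S) θ Q) ∧ a * y ∉ JQ (S := S) θ Q := by
    intro y hy
    have htor : LocCoh.IsPowerTorsion (maximalIdeal (Q ⧸ JQ (S := S) θ Q)) (Q ⧸ JQ (S := S) θ Q) := fun x => by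
      obtain ⟨N, hN⟩ := IsArtinianRing.isNilpotent_jacobson_bot (R := Q ⧸ JQ (S := S) θ Q)
      rw [IsLocalRing.jacobson_eq_maximalIdeal ⊥ bot_ne_top] at hN
      exact ⟨N, fun a ha => by
        rw [hN] at ha
        rw [show a = 0 from ha, zero_smul]⟩
    obtain ⟨a, ha, ha0⟩ := Matlis.exists_smul_mem_socle htor
      (x := Ideal.Quotient.mk (JQ (S := S) θ Q) y) (fun h => hy (Ideal.Quotient.eq_zero_iff_mem.1 h))
    obtain ⟨a, rfl⟩ := Ideal.Quotient.mk_surjective a
    rw [smul_eq_mul, ← map_mul] at ha ha0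
    refine ⟨a, fun b hb => ?_, fun h => ha0 (Ideal.Quotient.eq_zero_iff_mem.2 h)⟩
    have hb' : Ideal.Quotient.mk (JQ (S := S) θ Q) b ∈ maximalIdeal (Q ⧸ JQ (S := S) θ Q) := by
      rw [IsLocalRing.mem_maximalIdeal]
      exact fun hu => (IsLocalRing.mem_maximalIdeal b).1 hb
        (((IsLocalHom.of_surjective (Ideal.Quotient.mk (JQ (S := S) θ Q)) Ideal.Quotient.mk_surjective).map_nonunit b) hu)
    have := (Submodule.mem_torsionBySet_iff _ _).1 ha ⟨_, hb'⟩
    rw [smul_eq_mul, ← map_mul] at this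
    exact Ideal.Quotient.eq_zero_iff_mem.1 this
  have hΔQ : algebraMap S Q (algebraMap B S Δ) ∉ JQ (S := S) θ Q := by
    intro h
    have h1 : (1 : Q) ∉ JQ (S := S) θ Q := fun h' => (maximalIdeal.isMaximal Q).ne_top
      (Ideal.eq_top_iff_one _ |>.2 (JQ_le M Q hθ h'))
    obtain ⟨a, ha, ha0⟩ := hsocQ 1 h1
    refine ha0 ?_
    have := (hcolon _).1 ha
    rwa [sup_eq_left.2 ((Ideal.span_singleton_le_iff_mem _).2 h)] at this
  let v : Bm ⧸ JB θ Bm := Ideal.Quotient.mk _ (algebraMap B Bm Δ)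
  have hv : ∀ a ∈ maximalIdeal (Bm ⧸ JB θ Bm), a * v = 0 := by
    intro a ha
    obtain ⟨a, rfl⟩ := Ideal.Quotient.mk_surjective a
    have hamem : a ∈ maximalIdeal Bm := by
      rw [IsLocalRing.mem_maximalIdeal]
      exact fun hu => (IsLocalRing.mem_maximalIdeal _).1 ha (hu.map (Ideal.Quotient.mk _))
    rw [← map_mul, Ideal.Quotient.eq_zero_iff_mem]
    rw [← IsLocalization.AtPrime.map_eq_maximalIdeal (M.under B) Bm] at hamem
    clear ha
    induction hamem using Submodule.span_induction with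
    | mem x hx =>
      obtain ⟨b, hb, rfl⟩ := hx
      rw [← map_mul, mem_JB_iff M hM E hE θ Bm Q, map_mul, map_mul]
      refine (hcolon _).2 (le_sup_right (a := JQ (S := S) θ Q) (Ideal.mem_span_singleton_self _)) _ ?_
      rw [IsLocalization.AtPrime.to_map_mem_maximal_iff Q M]
      exact hb
    | zero => rw [zero_mul]; exact zero_mem _
    | add x y _ _ hx hy => rw [add_mul]; exact add_mem hx hy
    | smul r x _ hx => rw [smul_eq_mul, mul_assoc]; exact Ideal.mul_mem_left _ _ hx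
  haveI : LocCoh.IsGorensteinLocalRing (Bm ⧸ JB θ Bm) := by
    refine isGorensteinLocalRing_of_socle _ v hv fun x hx => ?_
    obtain ⟨x, rfl⟩ := Ideal.Quotient.mk_surjective x
    obtain ⟨⟨b, w⟩, hbw⟩ := IsLocalization.surj (M.under B).primeCompl x
    have hw : IsUnit (algebraMap B Bm w) := IsLocalization.map_units Bm w
    -- reduce to a numerator
    suffices ∃ c', Ideal.Quotient.mk (JB θ Bm) (algebraMap B Bm b) = c' * v by
      obtain ⟨c', hc'⟩ := this
      obtain ⟨wu, hwu⟩ := hw.map (Ideal.Quotient.mk (JB θ Bm))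
      refine ⟨↑wu⁻¹ * c', ?_⟩
      rw [mul_assoc, ← hc', ← hbw, map_mul, ← hwu, mul_comm _ (wu : Bm ⧸ JB θ Bm), Units.inv_mul_cancel_left]
    by_cases hbJ : algebraMap B Bm b ∈ JB θ Bm
    · exact ⟨0, by rw [zero_mul, Ideal.Quotient.eq_zero_iff_mem.2 hbJ]⟩
    have hbQ : algebraMap S Q (algebraMap B S b) ∉ JQ (S := S) θ Q :=
      fun h => hbJ ((mem_JB_iff M hM E hE θ Bm Q b).2 h)
    obtain ⟨a, ha, ha0⟩ := hsocQ _ hbQ
    obtain ⟨j, hj, d, hd, hjd⟩ := Submodule.mem_sup.1 ((hcolon _).1 ha)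
    obtain ⟨r, rfl⟩ := Ideal.mem_span_singleton'.1 hd
    have hr : IsUnit r := by
      by_contra hr
      refine ha0 (hjd ▸ add_mem hj ?_)
      exact (hcolon _).2 (le_sup_right (a := JQ (S := S) θ Q) (Ideal.mem_span_singleton_self _)) r
        ((IsLocalRing.mem_maximalIdeal r).2 hr)
    obtain ⟨⟨s, u⟩, hsu⟩ := IsLocalization.surj M.primeCompl (↑hr.unit⁻¹ * a)
    dsimp only at hsu
    have hru : (↑hr.unit⁻¹ : Q) * r = 1 := hr.val_inv_mul
    have hΔb : algebraMap S Q ((u : S) * algebraMap B S Δ - s * algebraMap B S b) ∈ JQ (S := S) θ Q := by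
      rw [map_sub, map_mul, map_mul, ← hsu]
      have : algebraMap S Q (u : S) * algebraMap S Q (algebraMap B S Δ) -
          ↑hr.unit⁻¹ * a * algebraMap S Q (u : S) * algebraMap S Q (algebraMap B S b) =
          -(algebraMap S Q (u : S) * ↑hr.unit⁻¹) * j := by
        linear_combination (-(algebraMap S Q (u : S)) * algebraMap S Q (algebraMap B S Δ)) * hru +
          (algebraMap S Q (u : S) * ↑hr.unit⁻¹) * hjd
      rw [this]
      exact Ideal.mul_mem_left _ _ hj
    rw [JQ_eq, IsLocalization.algebraMap_mem_map_algebraMap_iff M.primeCompl] at hΔb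
    obtain ⟨u₂, hu₂, hmem⟩ := hΔb
    obtain ⟨w', hw', q, hq⟩ := exists_invariant_dvd (B := B) M hM (u₂ * (u : S))
      ((‹M.IsPrime›).mul_notMem hu₂ u.2)
    have hmem2 : algebraMap B S w' * algebraMap B S Δ - algebraMap B S b * (q * u₂ * s) ∈
        Ideal.span (Set.range (algebraMap B S ∘ θ)) := by
      have : algebraMap B S w' * algebraMap B S Δ - algebraMap B S b * (q * u₂ * s) =
          q * (u₂ * ((u : S) * algebraMap B S Δ - s * algebraMap B S b)) := by
        rw [hq]; ring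
      rw [this]
      exact Ideal.mul_mem_left _ _ hmem
    let e : B := E (q * u₂ * s)
    have he : w' * Δ - b * e ∈ Ideal.span (Set.range θ) := by
      obtain ⟨d, hd⟩ := (Ideal.mem_span_range_iff_exists_fun).1 hmem2
      refine (Ideal.mem_span_range_iff_exists_fun).2 ⟨fun i => E (d i), ?_⟩
      have h1 := congrArg E hd
      rw [map_sum, map_sub, ← map_mul, ← mul_one (algebraMap B S (w' * Δ)), E_mul, hE, mul_one, E_mul] at h1
      rw [← h1]
      refine Finset.sum_congr rfl fun i _ => ?_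
      rw [Function.comp_apply, mul_comm (d i), E_mul, mul_comm]
    have heq : Ideal.Quotient.mk (JB θ Bm) (algebraMap B Bm b) * Ideal.Quotient.mk (JB θ Bm) (algebraMap B Bm e) =
        Ideal.Quotient.mk (JB θ Bm) (algebraMap B Bm w') * v := by
      show _ = Ideal.Quotient.mk (JB θ Bm) (algebraMap B Bm w') * Ideal.Quotient.mk (JB θ Bm) (algebraMap B Bm Δ)
      rw [← map_mul, ← map_mul]
      refine (Ideal.Quotient.eq.2 ?_).symm
      dsimp only
      rw [← map_mul, ← map_sub, JB_eq]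
      exact Ideal.mem_map_of_mem _ he
    have hwu : IsUnit (Ideal.Quotient.mk (JB θ Bm) (algebraMap B Bm w')) :=
      (IsLocalization.map_units Bm (⟨w', hw'⟩ : (M.under B).primeCompl)).map _
    have heu : IsUnit (Ideal.Quotient.mk (JB θ Bm) (algebraMap B Bm e)) := by
      by_contra hne
      have hb0 : Ideal.Quotient.mk (JB θ Bm) (algebraMap B Bm b) *
          Ideal.Quotient.mk (JB θ Bm) (algebraMap B Bm e) = 0 := by
        have h1 := hx _ ((IsLocalRing.mem_maximalIdeal _).2 hne)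
        have h2 : Ideal.Quotient.mk (JB θ Bm) (algebraMap B Bm e) *
            (Ideal.Quotient.mk (JB θ Bm) x * Ideal.Quotient.mk (JB θ Bm) (algebraMap B Bm w)) = 0 := by
          rw [← mul_assoc, h1, zero_mul]
        rw [← map_mul (Ideal.Quotient.mk (JB θ Bm)) x, hbw] at h2
        rw [mul_comm]
        exact h2
      rw [heq] at hb0
      obtain ⟨wu, hwu'⟩ := hwu
      have hv0 : v = 0 := by
        have := congrArg ((↑wu⁻¹ : Bm ⧸ JB θ Bm) * ·) hb0
        simpa [← hwu'] using this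
      exact hΔQ ((mem_JB_iff M hM E hE θ Bm Q Δ).1 (Ideal.Quotient.eq_zero_iff_mem.1 hv0))
    obtain ⟨eu, heu'⟩ := heu
    refine ⟨↑eu⁻¹ * Ideal.Quotient.mk (JB θ Bm) (algebraMap B Bm w'), ?_⟩
    rw [mul_assoc, ← heq, ← heu', mul_comm _ (eu : Bm ⧸ JB θ Bm), Units.inv_mul_cancel_left]
  refine isGorensteinLocalRing_of_regular n Bm (List.ofFn (algebraMap B Bm ∘ θ)) (by simp) ?_ hBreg ?_
  · intro r hr
    obtain ⟨i, rfl⟩ := List.mem_ofFn.1 hr
    exact JB_le M Bm hθ (Ideal.subset_span ⟨i, rfl⟩)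
  · refine (GorFlat.gorenstein_congr (Ideal.quotEquivOfEq (I := JB θ Bm) ?_)).1 ‹LocCoh.IsGorensteinLocalRing (Bm ⧸ JB θ Bm)›
    simp [JB, Ideal.ofList, List.mem_ofFn, Set.range]

end GrothLib.GorInv27
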